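import Cfsg.Agent.FiSixfold.Lifts
import Cfsg.Agent.FiTwenty.SpiderLift

/-!
The kernel of a stem extension of the presented Fischer group on nine letters is cyclic of order dividing six.
-/

set_option autoImplicit false
set_option maxRecDepth 20000
set_option Elab.async false

namespace Cfsg.Lib.FiSixfold

open Cfsg.Lib.CosetCert
open Cfsg.Lib.FiPres (im im10 im10_low good_im subsIn toGrp toGrp_im Good)
open Cfsg.Lib.FiTwenty (rpt pairWord wval_rpt wval_cons wval_nil wval_append wval_congr eqV spiderBase coxBase chainBase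
  allIn allIn_spec trace_mem revOpsSeven revOpsSeven_ok rev_facts spider_three)
open scoped commutatorElement

/-- The Coxeter relators of nine letters and the empty word. -/
def coxNine : List (List ℕ) := [] :: (List.range 9).flatMap fun x => (List.range 9).map (pairWord x)

theorem cube_nine : allIn Cfsg.Lib.FiTwenty.SpiderCube.rels [1, 2, 3, 4, 5, 6, 7, 8] (eqTwo :: coxNine) = true := by
  decide +kernel

open Cfsg.Lib.FiPres in
theorem low_nine : allIn D0.rels [2, 3, 4, 7] coxNine = true ∧ allIn D1.rels [2, 3, 4, 5, 7] coxNine = true ∧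
    allIn D2.rels [2, 3, 4, 5, 6, 7] coxNine = true ∧
    allIn Cfsg.Lib.FiTwenty.D3.rels [1, 2, 3, 4, 5, 6, 7] coxNine = true ∧
    subsIn D0.cert.subs [2, 3, 4, 7] [] = true ∧ subsIn D1.cert.subs [2, 3, 4, 5, 7] [2, 3, 4, 7] = true ∧
    subsIn D2.cert.subs [2, 3, 4, 5, 6, 7] [2, 3, 4, 5, 7] = true ∧
    subsIn Cfsg.Lib.FiTwenty.D3.cert.subs [1, 2, 3, 4, 5, 6, 7] [2, 3, 4, 5, 6, 7] = true := by decide +kernel

section
variable {X : Type*} [Group X] (f : ℕ → X)

theorem nine_step {C : Cert} {R : List (List ℕ)} (hC : C.Valid R) (Λ S : List ℕ) (hng : C.ng = Λ.length)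
    (hrel : allIn R Λ coxNine = true) (hcox : ∀ w ∈ coxNine, wval f w = 1) (hsq : ∀ l, f l * f l = 1)
    (hsub : subsIn C.subs Λ S = true) (hK : Finite (lgp f S)) :
    Finite (lgp f Λ) ∧ Nat.card (lgp f Λ) ≤ C.fin.length * Nat.card (lgp f S) := by
  haveI := hK
  obtain ⟨h1, h2⟩ := allIn_spec f hrel hcox
  exact lgp_bound f hC Λ hng h1 h2 (fun l _ => hsq l) fun s hs =>
    lgp_mem f (List.contains_iff_mem.1 (List.all_eq_true.1 hsub s hs))

open Cfsg.Lib.FiPres in
theorem bound_seven [Finite X] (hcox : ∀ w ∈ coxNine, wval f w = 1) (hsq : ∀ l, f l * f l = 1) :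
    Nat.card (lgp f [1, 2, 3, 4, 5, 6, 7]) ≤ 2903040 := by
  obtain ⟨r0, r1, r2, r3, s0, s1, s2, s3⟩ := low_nine
  have hb : Nat.card (lgp f []) = 1 := by
    rw [show lgp f [] = ⊥ by simp [lgp]]
    exact Subgroup.card_bot
  have h0 := (nine_step f D0.valid [2, 3, 4, 7] [] rfl r0 hcox hsq s0 inferInstance).2
  have h1 := (nine_step f D1.valid [2, 3, 4, 5, 7] [2, 3, 4, 7] rfl r1 hcox hsq s1 inferInstance).2
  have h2 := (nine_step f D2.valid [2, 3, 4, 5, 6, 7] [2, 3, 4, 5, 7] rfl r2 hcox hsq s2 inferInstance).2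
  have h3 := (nine_step f Cfsg.Lib.FiTwenty.D3.valid [1, 2, 3, 4, 5, 6, 7] [2, 3, 4, 5, 6, 7] rfl r3 hcox hsq s3 inferInstance).2
  rw [D0.fins_length, hb] at h0
  rw [D1.fins_length] at h1
  rw [D2.fins_length] at h2
  rw [Cfsg.Lib.FiTwenty.D3.fins_length] at h3
  omega

theorem cube_mem (hcox : ∀ w ∈ coxNine, wval f w = 1) (heq : wval f eqTwo = 1) (hsq : ∀ l, f l * f l = 1) :
    wval f (rpt 30 spiderBase) ∈ lgp f [1, 2, 3, 4, 5, 6, 7] := by
  obtain ⟨h1, -⟩ := allIn_spec f cube_nine fun w hw => (List.mem_cons.1 hw).elim (fun e => e ▸ heq) (hcox w)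
  obtain ⟨-, hw, hlen, hs⟩ := Cfsg.Lib.FiTwenty.cube_data
  rw [← hw]
  exact trace_mem f (by decide) _ Cfsg.Lib.FiTwenty.SpiderCube.spec_ok Cfsg.Lib.FiTwenty.SpiderCube.steps_ok
    Cfsg.Lib.FiTwenty.SpiderCube.trace_ok h1 (fun l => hsq _)
    (fun s hs' => lgp_mem f (hs ▸ List.mem_map.2 ⟨s, hs', rfl⟩)) hlen

end

/-- Two elements of a kernel of order at most two. -/
theorem small_kernel {X Y : Type*} [Group X] [Group Y] [Finite X] (r : X →* Y) {M : ℕ} (hpos : 0 < M)
    (hX : Nat.card X ≤ 2 * M) (hY : M ≤ Nat.card r.range) {x y : X} (hx : r x = 1) (hy : r y = 1) :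
    x * x = 1 ∧ (x = 1 ∨ y = 1 ∨ y = x) := by
  have h := Subgroup.card_mul_index r.ker
  rw [Subgroup.index_ker] at h
  have h2 : Nat.card r.ker ≤ 2 := by
    by_contra hc
    have : 3 * M ≤ Nat.card r.ker * Nat.card r.range := Nat.mul_le_mul (not_le.1 hc) hY
    omega
  haveI := Fintype.ofFinite r.ker
  haveI := Classical.decEq r.ker
  rw [Nat.card_eq_fintype_card] at h2
  have key : ∀ a b : r.ker, a ≠ 1 → b ≠ 1 → a = b := fun a b ha hb => by
    by_contra hab
    have hc : ({1, a, b} : Finset r.ker).card = 3 := by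
      rw [Finset.card_insert_of_notMem (by simp [Ne.symm ha, Ne.symm hb]), Finset.card_pair hab]
    have := Finset.card_le_univ ({1, a, b} : Finset r.ker)
    omega
  set a : r.ker := ⟨x, hx⟩ with hadef
  refine ⟨?_, ?_⟩
  · by_cases ha : a = 1
    · rw [show x = 1 from congrArg Subtype.val ha, mul_one]
    · have ha' : a⁻¹ ≠ 1 := fun e => ha (inv_eq_one.1 e)
      have e := congrArg Subtype.val (key a a⁻¹ ha ha')
      exact mul_eq_one_iff_eq_inv.2 e
  · rcases em (x = 1) with e | hx1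
    · exact Or.inl e
    · rcases em (y = 1) with e | hy1
      · exact Or.inr (Or.inl e)
      · exact Or.inr (Or.inr (congrArg Subtype.val (key ⟨y, hy⟩ a
          (fun e => hy1 (congrArg Subtype.val e)) (fun e => hx1 (congrArg Subtype.val e)))))

theorem pair_cases {x y : ℕ} (hx : x < 9) (hy : y < 9) :
    (x = y ∧ pairWord x y = [x, y]) ∨ pairWord x y = rpt 2 [x, y] ∨ pairWord x y = rpt 3 [x, y] :=
  Cfsg.Lib.FiTwenty.pair_cases (Nat.lt_succ_of_lt hx) (Nat.lt_succ_of_lt hy)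

section
variable {Γ : Type*} [Group Γ] {σ : Γ →* Cfsg.Spor.Fi22} {zt : Γ} {A : ℕ → Γ}

theorem Lifts.pair (h : Central σ) (L : Lifts σ zt A) (h2 : zt * zt = 1) {x y : ℕ} (hx : x < 9) (hy : y < 9) :
    wval A (pairWord x y) = 1 := by
  have sq : ∀ k, k < 9 → A k * A k = 1 := fun k hk => (L.sq h hk).trans h2
  rcases pair_cases hx hy with ⟨rfl, hp⟩ | hp | hp
  · rw [hp, wval_cons, wval_cons, wval_nil, mul_one, sq x hx]
  · rw [hp, wval_rpt, wval_cons, wval_cons, wval_nil, mul_one, pow_two]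
    calc A x * A y * (A x * A y) = A x * (A y * A x) * A y := by group
      _ = A x * A x * (A y * A y) := by rw [← L.commute h hx hy (im_comm hx hy hp)]; group
      _ = 1 := by rw [sq x hx, sq y hy, one_mul]
  · rw [hp, wval_rpt, wval_cons, wval_cons, wval_nil, mul_one]
    have e := L.braid h hx hy (im_braid hx hy hp)
    rw [inv_eq_of_mul_eq_one_left (sq x hx), inv_eq_of_mul_eq_one_left (sq y hy)] at e
    rw [pow_succ, pow_succ, pow_one]
    calc A x * A y * (A x * A y) * (A x * A y) = (A x * A y * A x) * (A y * A x * A y) := by group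
      _ = A y * A x * (A y * A y) * A x * A y := by rw [e]; group
      _ = 1 := by rw [sq y hy, mul_one, mul_assoc (A y), sq x hx, mul_one, sq y hy]

theorem Lifts.eqTwo_one (h : Central σ) (L : Lifts σ zt A) (h2 : zt * zt = 1) : wval A eqTwo = 1 := by
  have sq : ∀ k, k < 9 → A k * A k = 1 := fun k hk => (L.sq h hk).trans h2
  have hl : ∀ l ∈ eqV, l < 9 := by decide
  obtain ⟨g1, e1⟩ := L.conj 1 (by norm_num)
  obtain ⟨g2, e2⟩ := L.conj 2 (by norm_num)
  have e : A 1 = wval A eqV * A 2 * (wval A eqV)⁻¹ := by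
    refine h.eq_lift L.z ⟨g1, e1⟩ ⟨wval A eqV * g2, by rw [e2]; group⟩ ?_
    rw [map_mul, map_mul, map_inv, L.map_low hl, L.map 1 (by norm_num), L.map 2 (by norm_num)]
    exact eq_spec
  rw [eqTwo, wval_cons, wval_append, wval_cons, wval_reverse A (fun l hl' => sq l (hl l hl')),
    ← mul_assoc (wval A eqV), ← e]
  exact sq 1 (by norm_num)

end

theorem chain_rev : (rpt 9 chainBase).reverse = rpt 9 chainBase.reverse ∧ (rpt 9 chainBase).length = 63 ∧
    rpt 30 spiderBase = rpt 10 spiderBase ++ (rpt 10 spiderBase ++ rpt 10 spiderBase) := by decide +kernel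

/-- The kernel of a stem extension. -/
theorem stem_ker {Γ : Type*} [Group Γ] [Finite Γ] {σ : Γ →* Cfsg.Spor.Fi22} (hσ : Cfsg.IsStemExtension σ) :
    IsCyclic σ.ker ∧ Nat.card σ.ker ∣ 6 := by
  have h : Central σ := ⟨hσ.1, hσ.2.1⟩
  obtain ⟨zt, A, L, h2, h9⟩ := exists_exact h
  set f := cut A with hfdef
  have hfw : ∀ {w : List ℕ}, (∀ l ∈ w, l < 9) → wval f w = wval A w := fun hw => wval_cut hw
  have hsq : ∀ l, f l * f l = 1 := fun l => by
    rw [hfdef, cut]
    split_ifs with hl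
    exacts [(L.sq h hl).trans h2, mul_one 1]
  have hcl : ∀ w ∈ coxNine, ∀ l ∈ w, l < 9 := by decide +kernel
  have hcox : ∀ w ∈ coxNine, wval f w = 1 := fun w hw => by
    rw [hfw (hcl w hw)]
    rcases List.mem_cons.1 hw with rfl | hw
    · rfl
    obtain ⟨x, hx, hw⟩ := List.mem_flatMap.1 hw
    obtain ⟨y, hy, rfl⟩ := List.mem_map.1 hw
    exact L.pair h h2 (List.mem_range.1 hx) (List.mem_range.1 hy)
  have heq : wval f eqTwo = 1 := by rw [hfw (by decide +kernel), L.eqTwo_one h h2]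
  -- the two remaining relators
  have hσf : ∀ l, l < 9 → σ (f l) = im l := fun l hl => by rw [hfdef, cut_low hl, L.map l hl]
  set e := wval f (rpt 10 spiderBase) with he
  set t := wval f (rpt 9 chainBase) with ht
  have he1 : σ e = 1 := by
    rw [he, hfw (by decide +kernel), L.map_low (by decide +kernel)]
    exact im_extra (by simp)
  have ht1 : σ t = 1 := by
    rw [ht, hfw (by decide +kernel), L.map_low (by decide +kernel)]
    exact im_extra (by simp)
  have ht2 : t * t = 1 := by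
    rw [ht, hfw (by decide +kernel)] at ht1 ⊢
    rw [L.rev_sq h (S := chainBase) (os := revOpsSeven) 9 (by decide) revOpsSeven_ok chain_rev.1 rfl ht1, h2, one_pow]
  -- inside the subgroup on seven letters
  let r : lgp f [1, 2, 3, 4, 5, 6, 7] →* Cfsg.Spor.Fi22 := σ.comp (lgp f [1, 2, 3, 4, 5, 6, 7]).subtype
  have hrange : 1451520 ≤ Nat.card r.range := by
    refine card_seven.trans ?_
    haveI := Cfsg.Lib.FiPres.finite_fi
    refine Subgroup.card_le_of_le ((Subgroup.closure_le _).2 ?_)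
    rintro _ ⟨l, hl, rfl⟩
    have hl9 : l < 9 := (show ∀ l ∈ [1, 2, 3, 4, 5, 6, 7], l < 9 by decide) l hl
    exact ⟨⟨f l, lgp_mem f hl⟩, by rw [im10_low hl9]; exact hσf l hl9⟩
  have htm : t ∈ lgp f [1, 2, 3, 4, 5, 6, 7] := lgp_wval f (by decide +kernel)
  have hcm : e * (e * e) ∈ lgp f [1, 2, 3, 4, 5, 6, 7] := by
    have := cube_mem f hcox heq hsq
    rwa [chain_rev.2.2, wval_append, wval_append] at this
  have hc1 : σ (e * (e * e)) = 1 := by rw [map_mul, map_mul, he1, one_mul, one_mul]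
  obtain ⟨hee, hcase⟩ := small_kernel r (M := 1451520) (by norm_num) (bound_seven f hcox hsq) hrange
    (x := ⟨_, hcm⟩) (y := ⟨t, htm⟩) hc1 ht1
  have hee : e ^ 6 = 1 := by
    have e' : e * (e * e) * (e * (e * e)) = 1 := congrArg Subtype.val hee
    simpa [pow_succ, mul_assoc] using e'
  have het : e * t = t * e := h.comm ht1 e
  -- one generator
  obtain ⟨g, hg1, hg6, heg, htg⟩ : ∃ g, σ g = 1 ∧ g ^ 6 = 1 ∧ e ∈ Subgroup.zpowers g ∧ t ∈ Subgroup.zpowers g := by
    rcases hcase with hc | hc | hc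
    · have hc : e ^ 3 = 1 := by
        have := congrArg Subtype.val hc
        simpa [pow_succ, mul_assoc] using this
      have h3 : (t * e) ^ 3 = t := by
        rw [Commute.mul_pow (show Commute t e from het.symm), hc, mul_one, pow_succ, pow_two, ht2, one_mul]
      refine ⟨t * e, by rw [map_mul, ht1, he1, one_mul], ?_, ?_, ?_⟩
      · rw [show 6 = 3 * 2 from rfl, pow_mul, h3, pow_two, ht2]
      · refine Subgroup.mem_zpowers_iff.2 ⟨4, ?_⟩
        rw [show (4 : ℤ) = ((4 : ℕ) : ℤ) from rfl, zpow_natCast, pow_succ, h3, ← mul_assoc, ht2, one_mul]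
      · exact Subgroup.mem_zpowers_iff.2 ⟨3, by rw [show (3 : ℤ) = ((3 : ℕ) : ℤ) from rfl, zpow_natCast, h3]⟩
    · have hc : t = 1 := congrArg Subtype.val hc
      exact ⟨e, he1, hee, Subgroup.mem_zpowers e, hc ▸ one_mem _⟩
    · have hc : t = e * (e * e) := congrArg Subtype.val hc
      exact ⟨e, he1, hee, Subgroup.mem_zpowers e,
        hc ▸ mul_mem (Subgroup.mem_zpowers e) (mul_mem (Subgroup.mem_zpowers e) (Subgroup.mem_zpowers e))⟩
  -- modulo this generator all relators hold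
  haveI hn : (Subgroup.zpowers g).Normal := ⟨fun n hn x => by
    have hn1 : σ n = 1 := MonoidHom.mem_ker.1 ((Subgroup.zpowers_le).2 (MonoidHom.mem_ker.2 hg1) hn)
    rw [h.comm hn1 x, mul_inv_cancel_right]
    exact hn⟩
  set π := QuotientGroup.mk' (Subgroup.zpowers g) with hπ
  set σ' : Γ ⧸ Subgroup.zpowers g →* Cfsg.Spor.Fi22 :=
    QuotientGroup.lift _ σ ((Subgroup.zpowers_le).2 (MonoidHom.mem_ker.2 hg1)) with hσ'
  have hσπ : ∀ x, σ' (π x) = σ x := fun x => rfl
  have hgood : Good fun l => π (f l) := by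
    intro w hw
    show wval (fun l => π (f l)) w = 1
    rw [← map_wval]
    rcases List.mem_append.1 hw with hw | hw
    · obtain ⟨x, hx, hw⟩ := List.mem_flatMap.1 hw
      obtain ⟨y, hy, rfl⟩ := List.mem_map.1 hw
      rw [beq_iff_eq.1 (List.all_eq_true.1 (List.all_eq_true.1 pair_same x hx) y hy),
        hcox _ (List.mem_cons_of_mem _ (List.mem_flatMap.2 ⟨x, hx, List.mem_map.2 ⟨y, hy, rfl⟩⟩)), map_one]
    · rw [extra_same] at hw
      simp only [List.mem_cons, List.not_mem_nil, or_false] at hw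
      rcases hw with rfl | rfl | rfl
      · exact (QuotientGroup.eq_one_iff _).2 heg
      · rw [hfw (by decide +kernel), h9, map_one]
      · exact (QuotientGroup.eq_one_iff _).2 htg
  let s := toGrp hgood
  have hs : ∀ x, σ' (s x) = x := by
    refine DFunLike.congr_fun (MonoidHom.eq_of_eqOn_dense (f := σ'.comp s) (g := MonoidHom.id _)
      Cfsg.Lib.FiPres.closure_im ?_)
    rintro _ ⟨l, hl, rfl⟩
    have hl : l < 9 := hl
    rw [MonoidHom.comp_apply, MonoidHom.id_apply, toGrp_im hgood hl, hσπ, hσf l hl]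
  have hcen : ∀ k : Γ ⧸ Subgroup.zpowers g, σ' k = 1 → ∀ x, x * k = k * x := by
    intro k hk x
    obtain ⟨k, rfl⟩ := QuotientGroup.mk'_surjective (Subgroup.zpowers g) k
    obtain ⟨x, rfl⟩ := QuotientGroup.mk'_surjective (Subgroup.zpowers g) x
    rw [← map_mul, ← map_mul, h.comm (k := k) (by rwa [← hσπ])]
  have hd : commutator Γ ≤ s.range.comap π := by
    rw [commutator_def, Subgroup.commutator_le]
    intro a _ b _
    refine ⟨⁅σ a, σ b⁆, ?_⟩
    have ka : ∀ x, σ' ((s (σ x))⁻¹ * π x) = 1 := fun x => by rw [map_mul, map_inv, hs, hσπ, inv_mul_cancel]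
    have ea : π a = s (σ a) * ((s (σ a))⁻¹ * π a) := by group
    have eb : π b = s (σ b) * ((s (σ b))⁻¹ * π b) := by group
    rw [map_commutatorElement, map_commutatorElement]
    conv_rhs => rw [ea, eb]
    have key : ∀ x y i j : Γ ⧸ Subgroup.zpowers g, (∀ g, g * i = i * g) → (∀ g, g * j = j * g) →
        ⁅x * i, y * j⁆ = ⁅x, y⁆ := by
      intro x y i j hi hj
      rw [commutatorElement_def, commutatorElement_def]
      calc x * i * (y * j) * (x * i)⁻¹ * (y * j)⁻¹ = x * (i * y) * (j * i⁻¹) * x⁻¹ * j⁻¹ * y⁻¹ := by group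
        _ = x * y * (i * (j * i⁻¹)) * x⁻¹ * j⁻¹ * y⁻¹ := by rw [← hi y]; group
        _ = x * y * (j * x⁻¹) * j⁻¹ * y⁻¹ := by rw [show i * (j * i⁻¹) = j by rw [← mul_assoc, ← hi j]; group]; group
        _ = _ := by rw [← hj x⁻¹]; group
    exact (key _ _ _ _ (hcen _ (ka a)) (hcen _ (ka b))).symm
  have hle : σ.ker ≤ Subgroup.zpowers g := fun k hk => by
    obtain ⟨x, hx⟩ := hd (hσ.2.2 hk)
    have hx1 : x = 1 := by rw [← hs x, hx, hσπ]; exact hk
    rw [hx1, map_one] at hx
    exact (QuotientGroup.eq_one_iff _).1 hx.symm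
  exact ⟨isCyclic_of_injective (Subgroup.inclusion hle) (Subgroup.inclusion_injective hle),
    ((Subgroup.card_dvd_of_le hle).trans (Nat.card_zpowers g).dvd).trans (orderOf_dvd_of_pow_eq_one hg6)⟩

end Cfsg.Lib.FiSixfold
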