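import Cfsg.Agent.FiSixfold.Triple
import Cfsg.Agent.FiSixfold.Bound
import Cfsg.Agent.FiTwenty.Cover
import Cfsg.Agent.Schur.FibreProduct

/-!
The multiplier of the presented Fischer group on nine letters is cyclic of order six.
-/

set_option autoImplicit false
set_option maxRecDepth 20000
set_option Elab.async false

namespace Cfsg.Lib.FiSixfold

open Cfsg.Lib.CosetCert
open Cfsg.Lib.FiTwenty (rpt pairWord wval_rpt wval_cons wval_nil wval_congr coxBase)

/-- The letters of the double cover. -/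
def gD (l : ℕ) : lgp Cfsg.Lib.FiTwenty.imZ Cfsg.Lib.FiTwenty.lamH :=
  if hl : l ∈ Cfsg.Lib.FiTwenty.lamH then ⟨Cfsg.Lib.FiTwenty.imZ l, lgp_mem _ hl⟩ else 1

theorem double_perfect : commutator (lgp Cfsg.Lib.FiTwenty.imZ Cfsg.Lib.FiTwenty.lamH) = ⊤ := by
  set π := QuotientGroup.mk' (commutator (lgp Cfsg.Lib.FiTwenty.imZ Cfsg.Lib.FiTwenty.lamH))
  set d : ℕ → Abelianization (lgp Cfsg.Lib.FiTwenty.imZ Cfsg.Lib.FiTwenty.lamH) := fun l => π (gD l)
  have hval : ∀ {w : List ℕ}, (∀ l ∈ w, l < 9) →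
      (lgp Cfsg.Lib.FiTwenty.imZ Cfsg.Lib.FiTwenty.lamH).subtype (wval gD w) = wval Cfsg.Lib.FiTwenty.im w := by
    intro w hw
    rw [map_wval, ← Cfsg.Lib.FiTwenty.wval_low fun l hl => Nat.lt_succ_of_lt (hw l hl)]
    refine wval_congr fun l hl => ?_
    show ((gD l).1) = _
    rw [gD, dif_pos ((show ∀ l < 9, l ∈ Cfsg.Lib.FiTwenty.lamH by decide) l (hw l hl))]
  have hrel : ∀ w : List ℕ, (∀ l ∈ w, l < 9) → wval Cfsg.Lib.FiTwenty.im w = 1 → wval d w = 1 := fun w hw h1 => by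
    show wval (fun l => π (gD l)) w = 1
    rw [← map_wval, show wval gD w = 1 from Subtype.ext ((hval hw).trans h1), map_one]
  have hpair : ∀ x y, x < 9 → y < 9 → wval d (pairWord x y) = 1 := fun x y hx hy => by
    refine hrel _ (fun l hl => ?_) (Cfsg.Lib.FiTwenty.good_pair (Nat.lt_succ_of_lt hx) (Nat.lt_succ_of_lt hy))
    obtain ⟨v, hv, hl⟩ := List.mem_flatten.1 hl
    rw [List.eq_of_mem_replicate hv] at hl
    simp only [List.mem_cons, List.not_mem_nil, or_false] at hl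
    rcases hl with rfl | rfl
    exacts [hx, hy]
  have hsq : ∀ x, x < 9 → d x * d x = 1 := fun x hx => by
    have h := hpair x x hx hx
    rwa [pairWord, Cfsg.Lib.FiTwenty.label_self, wval_rpt, wval_cons, wval_cons, wval_nil, mul_one, pow_one] at h
  have hlt : ∀ e : Fin 8, [0, 1, 2, 3, 4, 5, 3, 7].getD e.val 0 < 9 ∧ [1, 2, 3, 4, 5, 6, 7, 8].getD e.val 0 < 9 := by
    decide
  have hadj : ∀ e : Fin 8, d ([0, 1, 2, 3, 4, 5, 3, 7].getD e.val 0) = d ([1, 2, 3, 4, 5, 6, 7, 8].getD e.val 0) :=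
    fun e => by
      have h := hpair _ _ (hlt e).1 (hlt e).2
      rw [tree_pairs e, wval_rpt, wval_cons, wval_cons, wval_nil, mul_one] at h
      exact eq_of_braid (mul_comm _ _) (hsq _ (hlt e).1) (hsq _ (hlt e).2) h
  have e1 : d 1 = d 0 := (hadj 0).symm
  have e2 : d 2 = d 0 := (hadj 1).symm.trans e1
  have e3 : d 3 = d 0 := (hadj 2).symm.trans e2
  have e4 : d 4 = d 0 := (hadj 3).symm.trans e3
  have e5 : d 5 = d 0 := (hadj 4).symm.trans e4
  have e6 : d 6 = d 0 := (hadj 5).symm.trans e5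
  have e7 : d 7 = d 0 := (hadj 6).symm.trans e3
  have e8 : d 8 = d 0 := (hadj 7).symm.trans e7
  have hone : ∀ l ∈ List.range 9, d l = 1 := by
    refine letters_one (x0 := 0) (w := rpt 9 coxBase) (fun k hk => ?_)
      (by decide +kernel) (hsq 0 (by norm_num)) ?_ (by decide +kernel)
    · rw [List.mem_range] at hk
      interval_cases k <;> first | rfl | assumption
    · exact hrel _ (by decide +kernel) (Cfsg.Lib.FiTwenty.good_im _
        (List.mem_append_right _ (by simp [Cfsg.Lib.FiTwenty.extraWords, coxBase])))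
  refine top_le_iff.1 ?_
  rintro ⟨x, hx⟩ -
  induction hx using Subgroup.closure_induction with
  | mem y hy =>
    obtain ⟨l, hl, rfl⟩ := hy
    have h := hone l (List.mem_range.2 ((show ∀ l ∈ Cfsg.Lib.FiTwenty.lamH, l < 9 by decide) l hl))
    have h' : gD l ∈ commutator (lgp Cfsg.Lib.FiTwenty.imZ Cfsg.Lib.FiTwenty.lamH) := (QuotientGroup.eq_one_iff _).1 h
    rwa [gD, dif_pos hl] at h'
  | one => exact one_mem _
  | mul a b _ _ ha hb => exact mul_mem ha hb
  | inv a _ ha => exact inv_mem ha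

theorem double_stem : Cfsg.IsStemExtension Cfsg.Lib.FiTwenty.down :=
  ⟨Cfsg.Lib.FiTwenty.down_surjective, Cfsg.Lib.FiTwenty.center_eq.ge, by rw [double_perfect]; exact le_top⟩

theorem multiplier : Cfsg.HasCyclicSchurMultiplier Cfsg.Spor.Fi22 6 := by
  haveI := Cfsg.Lib.FiPres.finite_fi
  refine Cfsg.Lib.Schur.hasCyclicSchurMultiplier_of 6 ?_ fun _ _ _ _ hσ => stem_ker hσ
  obtain ⟨Γ₃, _, _, σ₃, h₃, c₃⟩ := exists_three
  haveI : Finite (lgp Cfsg.Lib.FiTwenty.imZ Cfsg.Lib.FiTwenty.lamH) := Cfsg.Lib.FiTwenty.bound_h.1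
  have c₂ := Cfsg.Lib.FiTwenty.card_ker
  obtain ⟨Δ, π, -, hst, -, h6⟩ := Cfsg.Lib.Schur.exists_fibre_stem Cfsg.Lib.FiTwenty.down σ₃ double_stem h₃
    (by rw [c₂, c₃]; norm_num)
  exact ⟨Δ, inferInstance, inferInstance, Cfsg.Lib.FiTwenty.down.comp π, hst, (stem_ker hst).1,
    by rw [h6, c₂, c₃]⟩

end Cfsg.Lib.FiSixfold
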