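import Mathlib

/-!
Square matrices over two elements given by the bits of their rows.
-/

set_option autoImplicit false

namespace Cfsg.Lib.FiSixfold

/-- A bit as an element of the field with two elements. -/
def bz (b : Bool) : ZMod 2 := if b then 1 else 0

theorem bz_xor : ∀ a b : Bool, bz (a ^^ b) = bz a + bz b := by decide

/-- The sum of the rows picked by the bits of a vector. -/
def rowApp : ℕ → List ℕ → ℕ
  | _, [] => 0
  | v, r :: B => (if v % 2 = 1 then r else 0) ^^^ rowApp (v / 2) B

/-- The product. -/
def mulB (A B : List ℕ) : List ℕ := A.map fun v => rowApp v B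

/-- The identity. -/
def idB (n : ℕ) : List ℕ := (List.range n).map fun i => 2 ^ i

/-- The product along a word. -/
def wordB (n : ℕ) (Ms : List (List ℕ)) (w : List ℕ) : List ℕ :=
  w.foldr (fun l acc => mulB (Ms.getD l (idB n)) acc) (idB n)

/-- The matrix of a list of rows. -/
def toM (n : ℕ) (A : List ℕ) : Matrix (Fin n) (Fin n) (ZMod 2) := fun i j => bz ((A.getD i 0).testBit j)

theorem rowApp_bit (j : ℕ) : ∀ (B : List ℕ) (v : ℕ),
    bz ((rowApp v B).testBit j) = ∑ k ∈ Finset.range B.length, bz (v.testBit k) * bz ((B.getD k 0).testBit j)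
  | [], v => by simp [rowApp, bz]
  | r :: B, v => by
    rw [rowApp, Nat.testBit_xor, bz_xor, rowApp_bit j B (v / 2), List.length_cons, Finset.sum_range_succ', add_comm]
    congr 1
    · refine Finset.sum_congr rfl fun k _ => ?_
      rw [Nat.testBit_succ, List.getD_cons_succ]
    · rw [List.getD_cons_zero, Nat.testBit_zero]
      by_cases h : v % 2 = 1 <;> simp [h, bz]

theorem toM_mulB {n : ℕ} {A B : List ℕ} (hA : A.length = n) (hB : B.length = n) :
    toM n (mulB A B) = toM n A * toM n B := by
  ext i j
  have hi : i.val < A.length := hA ▸ i.isLt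
  rw [Matrix.mul_apply]
  show bz (((A.map fun v => rowApp v B).getD i 0).testBit j) =
    ∑ k : Fin n, (fun k => bz ((A.getD i 0).testBit k) * bz ((B.getD k 0).testBit j)) k.val
  refine Eq.trans ?_ (Finset.sum_range fun k => bz ((A.getD i 0).testBit k) * bz ((B.getD k 0).testBit j))
  rw [List.getD_eq_getElem _ _ (by rw [List.length_map]; exact hi), List.getElem_map,
    ← List.getD_eq_getElem A 0 hi, rowApp_bit, hB]

theorem toM_idB (n : ℕ) : toM n (idB n) = 1 := by
  ext i j
  show bz (((idB n).getD i 0).testBit j) = _
  rw [idB, List.getD_eq_getElem _ _ (by simp), List.getElem_map, List.getElem_range, Nat.testBit_two_pow,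
    Matrix.one_apply]
  simp [bz, Fin.ext_iff]

theorem length_idB (n : ℕ) : (idB n).length = n := by simp [idB]

theorem length_wordB {n : ℕ} {Ms : List (List ℕ)} (hM : ∀ M ∈ Ms, M.length = n) :
    ∀ w : List ℕ, (wordB n Ms w).length = n
  | [] => length_idB n
  | l :: w => by
    show (mulB (Ms.getD l (idB n)) (wordB n Ms w)).length = n
    rw [mulB, List.length_map]
    rcases lt_or_ge l Ms.length with h | h
    · rw [List.getD_eq_getElem _ _ h]; exact hM _ (List.getElem_mem h)
    · rw [List.getD_eq_default _ _ h]; exact length_idB n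

theorem toM_wordB {n : ℕ} {Ms : List (List ℕ)} (hM : ∀ M ∈ Ms, M.length = n) :
    ∀ w : List ℕ, toM n (wordB n Ms w) = (w.map fun l => toM n (Ms.getD l (idB n))).prod
  | [] => by simp [wordB, toM_idB]
  | l :: w => by
    have hl : (Ms.getD l (idB n)).length = n := by
      rcases lt_or_ge l Ms.length with h | h
      · rw [List.getD_eq_getElem _ _ h]; exact hM _ (List.getElem_mem h)
      · rw [List.getD_eq_default _ _ h]; exact length_idB n
    show toM n (mulB (Ms.getD l (idB n)) (wordB n Ms w)) = _
    rw [toM_mulB hl (length_wordB hM w), toM_wordB hM w, List.map_cons, List.prod_cons]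

end Cfsg.Lib.FiSixfold
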