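import Cfsg.Agent.FiPres.Transp
import Cfsg.Agent.FiTwenty.Rotations

/-!
Facts in the presented group on nine letters used to lift its relations.
-/

set_option autoImplicit false
set_option maxRecDepth 20000
set_option Elab.async false

namespace Cfsg.Lib.FiSixfold

open Cfsg.Lib.CosetCert Cfsg.Lib.PermCert
open Cfsg.Lib.FiPres (im im10 im10_low good_im lamH)
open Cfsg.Lib.FiTwenty (rpt pairWord wval_rpt wval_cons wval_nil wval_append eqV spiderBase coxBase chainBase)

/-- The relator making two conjugate letters equal. -/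
def eqTwo : List ℕ := 1 :: (eqV ++ 2 :: eqV.reverse)

/-- The odd word in the letters of the centraliser. -/
def oddWord : List ℕ := rpt 9 [2, 3, 4, 5, 6, 7, 8]

theorem pair_same : ((List.range 9).all fun x => (List.range 9).all fun y =>
    Cfsg.Lib.FiPres.pairWord x y == pairWord x y) = true := by decide +kernel

theorem extra_same : Cfsg.Lib.FiPres.extraWords = [rpt 10 spiderBase, rpt 9 coxBase, rpt 9 chainBase] := by
  decide +kernel

theorem triv_ok : trivWord 3510 Cfsg.Lib.FiPres.sigTabs eqTwo = true ∧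
    trivWord 3510 Cfsg.Lib.FiPres.sigTabs oddWord = true ∧
    trivWord 3510 Cfsg.Lib.FiPres.sigTabs (rpt 3 [5, 9]) = true := by decide +kernel

theorem triv_one {w : List ℕ} (h : trivWord 3510 Cfsg.Lib.FiPres.sigTabs w = true) : wval im10 w = 1 :=
  Cfsg.Lib.FiPres.factG.2 ((Cfsg.Lib.FiPres.tabled.trivWord_sound h).trans (map_one _).symm)

theorem im_pair {x y : ℕ} (hx : x < 9) (hy : y < 9) : wval im (pairWord x y) = 1 := by
  rw [← beq_iff_eq.1 (List.all_eq_true.1 (List.all_eq_true.1 pair_same x (List.mem_range.2 hx)) y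
    (List.mem_range.2 hy))]
  exact good_im _ (List.mem_append_left _ (List.mem_flatMap.2 ⟨x, List.mem_range.2 hx,
    List.mem_map.2 ⟨y, List.mem_range.2 hy, rfl⟩⟩))

theorem im_extra {w : List ℕ} (h : w ∈ [rpt 10 spiderBase, rpt 9 coxBase, rpt 9 chainBase]) : wval im w = 1 :=
  good_im w (List.mem_append_right _ (extra_same ▸ h))

theorem im_sq {x : ℕ} (hx : x < 9) : im x * im x = 1 := good_im.inv hx

theorem im_comm {x y : ℕ} (hx : x < 9) (hy : y < 9) (h : pairWord x y = rpt 2 [x, y]) :
    im x * im y = im y * im x := by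
  have e := im_pair hx hy
  rw [h, wval_rpt, wval_cons, wval_cons, wval_nil, mul_one, sq] at e
  rw [← inv_eq_of_mul_eq_one_left e, mul_inv_rev, inv_eq_of_mul_eq_one_left (im_sq hx),
    inv_eq_of_mul_eq_one_left (im_sq hy)]

theorem im_braid {x y : ℕ} (hx : x < 9) (hy : y < 9) (h : pairWord x y = rpt 3 [x, y]) :
    im x * im y * im x = im y * im x * im y := by
  have e := im_pair hx hy
  rw [h, wval_rpt, wval_cons, wval_cons, wval_nil, mul_one, pow_succ, pow_succ, pow_one] at e
  have e' : im x * im y * im x * (im y * im x * im y) = 1 := by simpa only [mul_assoc] using e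
  rw [← inv_eq_of_mul_eq_one_left e', mul_inv_rev, mul_inv_rev, inv_eq_of_mul_eq_one_left (im_sq hx),
    inv_eq_of_mul_eq_one_left (im_sq hy), mul_assoc]

theorem tree_pairs : ∀ e : Fin 8, pairWord ([0, 1, 2, 3, 4, 5, 3, 7].getD e.val 0) ([1, 2, 3, 4, 5, 6, 7, 8].getD e.val 0) =
    rpt 3 [[0, 1, 2, 3, 4, 5, 3, 7].getD e.val 0, [1, 2, 3, 4, 5, 6, 7, 8].getD e.val 0] := by decide +kernel

theorem conj_step {x y : ℕ} (hx : x < 9) (hy : y < 9) (h : pairWord x y = rpt 3 [x, y])
    (hgx : ∃ g, im x = g * im 0 * g⁻¹) : ∃ g, im y = g * im 0 * g⁻¹ := by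
  obtain ⟨g, hg⟩ := hgx
  refine ⟨im x * im y * g, ?_⟩
  calc im y = im y * im x * (im y * im y) * im x := by rw [im_sq hy, mul_one, mul_assoc, im_sq hx, mul_one]
    _ = im y * im x * im y * im y * im x := by group
    _ = im x * im y * im x * im y * im x := by rw [im_braid hx hy h]
    _ = im x * im y * im x * (im x * im y)⁻¹ := by
        rw [mul_inv_rev, inv_eq_of_mul_eq_one_left (im_sq hx), inv_eq_of_mul_eq_one_left (im_sq hy)]
        group
    _ = im x * im y * g * im 0 * (im x * im y * g)⁻¹ := by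
        conv_lhs => arg 1; arg 2; rw [hg]
        group

theorem letter_transp {k : ℕ} (hk : k < 9) : ∃ g, im k = g * im10 0 * g⁻¹ := by
  rw [im10_low (by norm_num)]
  have h0 : ∃ g, im 0 = g * im 0 * g⁻¹ := ⟨1, by group⟩
  have h1 := conj_step (by norm_num) (by norm_num) (tree_pairs 0) h0
  have h2 := conj_step (by norm_num) (by norm_num) (tree_pairs 1) h1
  have h3 := conj_step (by norm_num) (by norm_num) (tree_pairs 2) h2
  have h4 := conj_step (by norm_num) (by norm_num) (tree_pairs 3) h3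
  have h5 := conj_step (by norm_num) (by norm_num) (tree_pairs 4) h4
  have h6 := conj_step (by norm_num) (by norm_num) (tree_pairs 5) h5
  have h7 := conj_step (by norm_num) (by norm_num) (tree_pairs 6) h3
  have h8 := conj_step (by norm_num) (by norm_num) (tree_pairs 7) h7
  interval_cases k <;> assumption

theorem eq_spec : im 1 = wval im eqV * im 2 * (wval im eqV)⁻¹ := by
  have hl : ∀ l ∈ eqV, l < 9 := by decide
  have e := triv_one triv_ok.1
  rw [Cfsg.Lib.FiPres.wval_low (fun l hl' => (show ∀ l ∈ eqTwo, l < 9 by decide) l hl'), eqTwo, wval_cons,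
    wval_append, wval_cons, wval_reverse im (fun l h => im_sq (hl l h)), ← mul_assoc (wval im eqV)] at e
  rw [← inv_eq_of_mul_eq_one_left (im_sq (show 1 < 9 by norm_num))]
  exact inv_eq_of_mul_eq_one_right e

theorem card_seven : 1451520 ≤ Nat.card (lgp im10 [1, 2, 3, 4, 5, 6, 7]) := by
  haveI := Cfsg.Lib.FiPres.finite_fi
  have h := (Cfsg.Lib.FiPres.step Cfsg.Lib.FiPres.D4.valid [1, 2, 3, 4, 5, 6, 7, 8] [1, 2, 3, 4, 5, 6, 7] rfl
    (by decide +kernel) (by decide) (by decide +kernel) inferInstance).2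
  rw [Cfsg.Lib.FiPres.D4.fins_length] at h
  have h1 := Cfsg.Lib.FiPres.bound_all.2.2
  rw [Cfsg.Lib.FiPres.factG.1] at h1
  omega

end Cfsg.Lib.FiSixfold
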