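import Cfsg.Agent.CosetCert.Kit

/-!
A group generated by involutory letters joined by products of order three, with an odd relation, is perfect.
-/

set_option autoImplicit false

namespace Cfsg.Lib.FiSixfold

open Cfsg.Lib.CosetCert

/-- Involutory letters linked to the first by braids, with a word of odd length equal to one, lie in every normal
subgroup with commutative quotient; so a homomorphism into commuting elements kills them. -/
theorem letters_one {X : Type*} [Monoid X] {d : ℕ → X} {L : List ℕ} {w : List ℕ} {x0 : ℕ}
    (hlink : ∀ l ∈ L, d l = d x0) (hw : ∀ l ∈ w, l ∈ L) (h2 : d x0 * d x0 = 1)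
    (h1 : (w.map d).prod = 1) (hodd : w.length % 2 = 1) : ∀ l ∈ L, d l = 1 := by
  intro l hl
  rw [hlink l hl]
  have e : w.map d = List.replicate w.length (d x0) :=
    List.eq_replicate_iff.2 ⟨List.length_map .., fun y hy => by
      obtain ⟨a, ha, rfl⟩ := List.mem_map.1 hy
      exact hlink a (hw a ha)⟩
  rw [e, List.prod_replicate, ← Nat.div_add_mod w.length 2, hodd, pow_succ, pow_mul, pow_two, h2, one_pow,
    one_mul] at h1
  exact h1

/-- In a commutative setting two joined involutory letters have the same value. -/
theorem eq_of_braid {X : Type*} [Monoid X] {a b : X} (hab : a * b = b * a) (ha : a * a = 1) (hb : b * b = 1)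
    (h : (a * b) ^ 3 = 1) : a = b := by
  have h2 : (a * b) ^ 2 = 1 := by
    rw [pow_two, mul_assoc, ← mul_assoc b, ← hab, mul_assoc a, hb, mul_one, ha]
  rw [pow_succ, h2, one_mul] at h
  calc a = a * (b * b) := by rw [hb, mul_one]
    _ = a * b * b := (mul_assoc _ _ _).symm
    _ = b := by rw [h, one_mul]

end Cfsg.Lib.FiSixfold
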