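import Cfsg.Agent.FiSixfold.Facts
import Cfsg.Agent.FiSixfold.Perfect
import Cfsg.Agent.FiTwenty.LiftClass

/-!
Lifts of the class of transpositions to a central extension of the presented group on nine letters.
-/

set_option autoImplicit false
set_option maxRecDepth 20000
set_option Elab.async false

namespace Cfsg.Lib.FiSixfold

open Cfsg.Lib.CosetCert
open Cfsg.Lib.FiPres (im im10 im10_low good_im lamH a_comm centralizer_a)
open Cfsg.Lib.FiTwenty (rpt pairWord wval_rpt wval_cons wval_nil wval_append wval_congr wval_scale coxBase opsApply_sound revOps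
  revOps_ok rev_facts)

variable {Γ : Type*} [Group Γ] (σ : Γ →* Cfsg.Spor.Fi22)

/-- A central extension. -/
structure Central : Prop where
  surj : Function.Surjective σ
  cent : σ.ker ≤ Subgroup.center Γ

variable {σ}

theorem Central.comm (h : Central σ) {k : Γ} (hk : σ k = 1) (g : Γ) : g * k = k * g :=
  Subgroup.mem_center_iff.1 (h.cent (MonoidHom.mem_ker.2 hk)) g

/-- Lifts of the centraliser commute with a lift of the transposition. -/
theorem Central.z_comm (h : Central σ) {zt : Γ} (hz : σ zt = im10 0) {g : Γ} (hg : σ g ∈ lgp im10 lamH) :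
    g * zt = zt * g := by
  set P : Subgroup Γ := (lgp im10 lamH).comap σ with hP
  have hker : ∀ x : P, σ (x.1 * zt * x.1⁻¹ * zt⁻¹) = 1 := fun x => by
    rw [map_mul, map_mul, map_mul, map_inv, map_inv, hz, a_comm (Subgroup.mem_comap.1 x.2)]
    group
  let c : P →* Γ := MonoidHom.mk' (fun x => x.1 * zt * x.1⁻¹ * zt⁻¹) fun x y => by
    show (x.1 * y.1) * zt * (x.1 * y.1)⁻¹ * zt⁻¹ = x.1 * zt * x.1⁻¹ * zt⁻¹ * (y.1 * zt * y.1⁻¹ * zt⁻¹)
    rw [h.comm (hker y) (x.1 * zt * x.1⁻¹ * zt⁻¹)]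
    calc x.1 * y.1 * zt * (x.1 * y.1)⁻¹ * zt⁻¹
        = (x.1 * (y.1 * zt * y.1⁻¹ * zt⁻¹)) * zt * x.1⁻¹ * zt⁻¹ := by group
      _ = y.1 * zt * y.1⁻¹ * zt⁻¹ * (x.1 * zt * x.1⁻¹ * zt⁻¹) := by rw [h.comm (hker y) x.1]; group
  have hcc : ∀ x : P, σ x.1 = 1 → c x = 1 := fun x hx => by
    show x.1 * zt * x.1⁻¹ * zt⁻¹ = 1
    rw [← h.comm hx zt]
    group
  choose a ha using fun l => h.surj (im10 l)
  let a' : ℕ → P := fun l => if hl : l ∈ lamH then ⟨a l, Subgroup.mem_comap.2 (by rw [ha]; exact lgp_mem im10 hl)⟩ else 1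
  have ha' : ∀ l, l ∈ lamH → σ (a' l).1 = im10 l := fun l hl => by simp [a', hl, ha]
  have hσ : ∀ w : List ℕ, (∀ l ∈ w, l ∈ lamH) → σ (wval a' w).1 = wval im10 w := fun w hw => by
    rw [show σ (wval a' w).1 = (σ.comp P.subtype) (wval a' w) from rfl, map_wval]
    exact wval_congr fun l hl => ha' l (hw l hl)
  have hd : ∀ w : List ℕ, (∀ l ∈ w, l ∈ lamH) → wval im10 w = 1 → wval (fun l => c (a' l)) w = 1 := fun w hw e => by
    rw [← map_wval]
    refine hcc _ ?_
    rw [hσ w hw, e]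
  set d : ℕ → Γ := fun l => c (a' l) with hddef
  have hcom : ∀ l m, d l * d m = d m * d l := fun l m => h.comm (hker (a' m)) _
  have h0 : d 0 = 1 := by
    show (a' 0).1 * zt * (a' 0).1⁻¹ * zt⁻¹ = 1
    have e := h.comm (show σ (zt⁻¹ * (a' 0).1) = 1 by
      rw [map_mul, map_inv, hz, ha' 0 (by decide), inv_mul_cancel]) zt
    have e' : (a' 0).1 = zt⁻¹ * (a' 0).1 * zt := by rw [← e]; group
    calc (a' 0).1 * zt * (a' 0).1⁻¹ * zt⁻¹ = zt * (zt⁻¹ * (a' 0).1 * zt) * (a' 0).1⁻¹ * zt⁻¹ := by group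
      _ = 1 := by rw [← e']; group
  have hsq : ∀ l ∈ lamH, d l * d l = 1 := fun l hl => by
    have := hd [l, l] (by simp [hl]) (by
      rw [wval_cons, wval_cons, wval_nil, mul_one]
      exact Cfsg.Lib.FiPres.tabled.sq l ((show ∀ l ∈ lamH, l < 10 by decide) l hl))
    rwa [wval_cons, wval_cons, wval_nil, mul_one] at this
  have hadj : ∀ x y, x ∈ lamH → y ∈ lamH → wval im10 (rpt 3 [x, y]) = 1 → d x = d y := by
    intro x y hx hy e
    have e3 := hd (rpt 3 [x, y]) (fun l hl => by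
      obtain ⟨v, hv, hl⟩ := List.mem_flatten.1 hl
      rw [List.eq_of_mem_replicate hv] at hl
      simp only [List.mem_cons, List.not_mem_nil, or_false] at hl
      rcases hl with rfl | rfl
      exacts [hx, hy]) e
    rw [wval_rpt, wval_cons, wval_cons, wval_nil, mul_one] at e3
    exact eq_of_braid (hcom x y) (hsq x hx) (hsq y hy) e3
  have hlow : ∀ x y, x < 9 → y < 9 → pairWord x y = rpt 3 [x, y] → wval im10 (rpt 3 [x, y]) = 1 := by
    intro x y hx hy hp
    rw [Cfsg.Lib.FiPres.wval_low (fun l hl => ?_), ← hp]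
    · exact im_pair hx hy
    · obtain ⟨v, hv, hl⟩ := List.mem_flatten.1 hl
      rw [List.eq_of_mem_replicate hv] at hl
      simp only [List.mem_cons, List.not_mem_nil, or_false] at hl
      rcases hl with rfl | rfl
      exacts [hx, hy]
  have c3 : d 3 = d 2 := (hadj 2 3 (by decide) (by decide) (hlow _ _ (by norm_num) (by norm_num) (tree_pairs 2))).symm
  have c4 : d 4 = d 2 := ((hadj 3 4 (by decide) (by decide) (hlow _ _ (by norm_num) (by norm_num) (tree_pairs 3))).symm).trans c3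
  have c5 : d 5 = d 2 := ((hadj 4 5 (by decide) (by decide) (hlow _ _ (by norm_num) (by norm_num) (tree_pairs 4))).symm).trans c4
  have c6 : d 6 = d 2 := ((hadj 5 6 (by decide) (by decide) (hlow _ _ (by norm_num) (by norm_num) (tree_pairs 5))).symm).trans c5
  have c7 : d 7 = d 2 := ((hadj 3 7 (by decide) (by decide) (hlow _ _ (by norm_num) (by norm_num) (tree_pairs 6))).symm).trans c3
  have c8 : d 8 = d 2 := ((hadj 7 8 (by decide) (by decide) (hlow _ _ (by norm_num) (by norm_num) (tree_pairs 7))).symm).trans c7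
  have c9 : d 9 = d 2 := ((hadj 5 9 (by decide) (by decide) (triv_one triv_ok.2.2)).symm).trans c5
  have hrest : ∀ l ∈ [2, 3, 4, 5, 6, 7, 8, 9], d l = 1 := by
    refine letters_one (x0 := 2) (w := oddWord) (fun l hl => ?_) (by decide +kernel) (hsq 2 (by decide)) ?_
      (by decide +kernel)
    · simp only [List.mem_cons, List.not_mem_nil, or_false] at hl
      rcases hl with rfl | rfl | rfl | rfl | rfl | rfl | rfl | rfl <;> first | rfl | assumption
    · exact hd oddWord (by decide +kernel) (triv_one triv_ok.2.1)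
  have hall : ∀ l ∈ lamH, d l = 1 := fun l hl => by
    rcases (show ∀ l ∈ lamH, l = 0 ∨ l ∈ [2, 3, 4, 5, 6, 7, 8, 9] by decide) l hl with rfl | hl
    exacts [h0, hrest l hl]
  have hle : lgp im10 lamH ≤ c.ker.map (σ.comp P.subtype) := by
    refine (Subgroup.closure_le _).2 ?_
    rintro _ ⟨l, hl, rfl⟩
    exact ⟨a' l, MonoidHom.mem_ker.2 (hall l hl), ha' l hl⟩
  obtain ⟨x, hx, e⟩ := hle hg
  have hgx : c ⟨g, Subgroup.mem_comap.2 hg⟩ = 1 := by
    have hk : σ (x⁻¹ * ⟨g, Subgroup.mem_comap.2 hg⟩ : P).1 = 1 := by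
      show σ (x.1⁻¹ * g) = 1
      rw [map_mul, map_inv, show σ x.1 = σ g from e, inv_mul_cancel]
    rw [show (⟨g, Subgroup.mem_comap.2 hg⟩ : P) = x * (x⁻¹ * ⟨g, Subgroup.mem_comap.2 hg⟩) by group, map_mul,
      MonoidHom.mem_ker.1 hx, hcc _ hk, one_mul]
  have : g * zt * g⁻¹ * zt⁻¹ = 1 := hgx
  rwa [mul_inv_eq_one, mul_inv_eq_iff_eq_mul] at this

/-- A conjugate of the lift is determined by its image. -/
theorem Central.eq_lift (h : Central σ) {zt : Γ} (hz : σ zt = im10 0) {x y : Γ} (hx : ∃ g, x = g * zt * g⁻¹)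
    (hy : ∃ g, y = g * zt * g⁻¹) (e : σ x = σ y) : x = y := by
  obtain ⟨g, rfl⟩ := hx
  obtain ⟨k, rfl⟩ := hy
  have hm : σ (k⁻¹ * g) ∈ lgp im10 lamH := by
    rw [← centralizer_a, Subgroup.mem_centralizer_singleton_iff, map_mul, map_inv]
    simp only [map_mul, map_inv, hz] at e
    calc (σ k)⁻¹ * σ g * im10 0 = (σ k)⁻¹ * (σ g * im10 0 * (σ g)⁻¹) * σ g := by group
      _ = (σ k)⁻¹ * (σ k * im10 0 * (σ k)⁻¹) * σ g := by rw [e]
      _ = im10 0 * ((σ k)⁻¹ * σ g) := by group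
  calc g * zt * g⁻¹ = k * (k⁻¹ * g * zt) * g⁻¹ := by group
    _ = k * (zt * (k⁻¹ * g)) * g⁻¹ := by rw [h.z_comm hz hm]
    _ = k * zt * k⁻¹ := by group

/-- Chosen lifts of the nine letters. -/
structure Lifts (σ : Γ →* Cfsg.Spor.Fi22) (zt : Γ) (A : ℕ → Γ) : Prop where
  z : σ zt = im10 0
  conj : ∀ k, k < 9 → ∃ g, A k = g * zt * g⁻¹
  map : ∀ k, k < 9 → σ (A k) = im k

theorem exists_lifts (h : Central σ) {zt : Γ} (hz : σ zt = im10 0) : ∃ A, Lifts σ zt A := by
  choose g hg using fun k : Fin 9 => letter_transp k.isLt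
  choose g' hg' using fun k => h.surj (g k)
  refine ⟨fun k => if hk : k < 9 then g' ⟨k, hk⟩ * zt * (g' ⟨k, hk⟩)⁻¹ else zt, hz, fun k hk => ?_, fun k hk => ?_⟩
  · exact ⟨g' ⟨k, hk⟩, dif_pos hk⟩
  · show σ (if hk : k < 9 then g' ⟨k, hk⟩ * zt * (g' ⟨k, hk⟩)⁻¹ else zt) = im k
    rw [dif_pos hk, map_mul, map_mul, map_inv, hg', hz, ← hg ⟨k, hk⟩]

/-- The lifts on the nine letters and the identity beyond. -/
def cut (A : ℕ → Γ) (k : ℕ) : Γ := if k < 9 then A k else 1

section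
variable {zt : Γ} {A : ℕ → Γ}

theorem cut_low {k : ℕ} (hk : k < 9) : cut A k = A k := if_pos hk

theorem wval_cut {w : List ℕ} (hw : ∀ l ∈ w, l < 9) : wval (cut A) w = wval A w :=
  wval_congr fun l hl => cut_low (hw l hl)

theorem Lifts.map_low (L : Lifts σ zt A) {w : List ℕ} (hw : ∀ l ∈ w, l < 9) : σ (wval A w) = wval im w := by
  rw [map_wval]
  exact wval_congr fun l hl => L.map l (hw l hl)

theorem Lifts.kappa (L : Lifts σ zt A) : σ (zt * zt) = 1 := by
  rw [map_mul, L.z]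
  exact Cfsg.Lib.FiPres.im10_zero_sq

theorem Lifts.sq (h : Central σ) (L : Lifts σ zt A) {k : ℕ} (hk : k < 9) : A k * A k = zt * zt := by
  obtain ⟨g, e⟩ := L.conj k hk
  rw [e]
  calc g * zt * g⁻¹ * (g * zt * g⁻¹) = g * (zt * zt) * g⁻¹ := by group
    _ = zt * zt := by rw [h.comm L.kappa g, mul_inv_cancel_right]

theorem Lifts.commute (h : Central σ) (L : Lifts σ zt A) {x y : ℕ} (hx : x < 9) (hy : y < 9)
    (e : im x * im y = im y * im x) : A x * A y = A y * A x := by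
  obtain ⟨g, hg⟩ := L.conj y hy
  have := h.eq_lift L.z (x := A x * A y * (A x)⁻¹) (y := A y) ⟨A x * g, by rw [hg]; group⟩ (L.conj y hy) (by
    rw [map_mul, map_mul, map_inv, L.map x hx, L.map y hy, e, mul_inv_cancel_right])
  rwa [mul_inv_eq_iff_eq_mul] at this

theorem Lifts.braid (h : Central σ) (L : Lifts σ zt A) {x y : ℕ} (hx : x < 9) (hy : y < 9)
    (e : im x * im y * im x = im y * im x * im y) : A x * A y * (A x)⁻¹ = A y * A x * (A y)⁻¹ := by
  obtain ⟨g, hg⟩ := L.conj x hx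
  obtain ⟨k, hk⟩ := L.conj y hy
  refine h.eq_lift L.z ⟨A x * k, by rw [hk]; group⟩ ⟨A y * g, by rw [hg]; group⟩ ?_
  rw [map_mul, map_mul, map_inv, map_mul, map_mul, map_inv, L.map x hx, L.map y hy,
    inv_eq_of_mul_eq_one_left (im_sq hx), inv_eq_of_mul_eq_one_left (im_sq hy), e]

theorem Lifts.low_comm (h : Central σ) (L : Lifts σ zt A) : ∀ x y, x < 10 → y < 10 → pairWord x y = rpt 2 [x, y] →
    cut A x * cut A y = cut A y * cut A x := fun x y _ _ hp => by
  by_cases hx : x < 9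
  · by_cases hy : y < 9
    · rw [cut_low hx, cut_low hy]
      exact L.commute h hx hy (im_comm hx hy hp)
    · rw [show cut A y = 1 from if_neg hy, mul_one, one_mul]
  · rw [show cut A x = 1 from if_neg hx, one_mul, mul_one]

/-- A word times its reverse. -/
theorem Lifts.rev_mul (h : Central σ) (L : Lifts σ zt A) : ∀ {w : List ℕ}, (∀ l ∈ w, l < 9) →
    wval A w.reverse * wval A w = (zt * zt) ^ w.length
  | [], _ => by simp [wval]
  | x :: w, hw => by
    rw [List.reverse_cons, wval_append, wval_cons, wval_nil, mul_one, wval_cons, List.length_cons, pow_succ']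
    calc wval A w.reverse * A x * (A x * wval A w) = wval A w.reverse * (A x * A x) * wval A w := by group
      _ = zt * zt * (wval A w.reverse * wval A w) := by
          rw [L.sq h (hw x List.mem_cons_self), h.comm L.kappa]; group
      _ = _ := by rw [L.rev_mul h fun a ha => hw a (List.mem_cons_of_mem x ha)]

/-- A reversed power of a word with central value has the inverse value up to squares of the lift. -/
theorem Lifts.rev_sq (h : Central σ) (L : Lifts σ zt A) {S w : List ℕ} {os : List ℕ} (n : ℕ)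
    (hS : ∀ l ∈ S, l < 9) (hops : Cfsg.Lib.FiTwenty.opsApply os S = some S.reverse)
    (hrev : (rpt n S).reverse = rpt n S.reverse) (hw : w = rpt n S) (h1 : σ (wval A w) = 1) :
    wval A w * wval A w = (zt * zt) ^ w.length := by
  subst hw
  obtain ⟨g, -, e⟩ := opsApply_sound (cut A) (L.low_comm h) (S := S) os S S.reverse hops fun _ hl => hl
  have hl : ∀ l ∈ rpt n S, l < 9 := fun l hl => by
    obtain ⟨v, hv, hl⟩ := List.mem_flatten.1 hl
    rw [List.eq_of_mem_replicate hv] at hl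
    exact hS l hl
  have hr := L.rev_mul h hl
  rw [wval_cut hS, wval_cut fun l hl => hS l (List.mem_reverse.1 hl)] at e
  rw [hrev, wval_rpt A n S.reverse, ← e, conj_pow, ← wval_rpt, h.comm h1 g, mul_inv_cancel_right] at hr
  exact hr

/-- Lifts of order two making the relator of seven letters exact. -/
theorem exists_exact (h : Central σ) : ∃ (zt : Γ) (A : ℕ → Γ), Lifts σ zt A ∧ zt * zt = 1 ∧
    wval A (rpt 9 coxBase) = 1 := by
  obtain ⟨z0, hz0⟩ := h.surj (im10 0)
  obtain ⟨A, L⟩ := exists_lifts h hz0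
  have hl : ∀ l ∈ rpt 9 coxBase, l < 9 := by decide +kernel
  have hc1 : σ (wval A (rpt 9 coxBase)) = 1 := by
    rw [L.map_low hl]
    exact im_extra (by simp)
  have hc2 := L.rev_sq h (S := coxBase) (os := revOps) 9 (by decide) revOps_ok (beq_iff_eq.1 rev_facts.1) rfl hc1
  rw [rev_facts.2.2] at hc2
  set c := wval A (rpt 9 coxBase) with hc
  set κ := z0 * z0 with hκ
  set k := c * (κ ^ 31)⁻¹ with hk
  have hk1 : σ k = 1 := by rw [hk, map_mul, hc1, map_inv, map_pow, L.kappa, one_pow, inv_one, one_mul]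
  have hkc : ∀ g : Γ, g * k⁻¹ = k⁻¹ * g := fun g => h.comm (by rw [map_inv, hk1, inv_one]) g
  have hcκ : c * (κ ^ 31)⁻¹ = (κ ^ 31)⁻¹ * c :=
    (h.comm (by rw [map_inv, map_pow, L.kappa, one_pow, inv_one]) c)
  have hkk : k * k = κ := by
    calc k * k = c * ((κ ^ 31)⁻¹ * c) * (κ ^ 31)⁻¹ := by rw [hk]; group
      _ = c * c * (κ ^ 31)⁻¹ * (κ ^ 31)⁻¹ := by rw [← hcκ]; group
      _ = κ := by rw [hc2]; group
  refine ⟨z0 * k⁻¹, fun l => A l * k⁻¹, ⟨?_, fun l hl => ?_, fun l hl => ?_⟩, ?_, ?_⟩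
  · rw [map_mul, map_inv, hk1, inv_one, mul_one, L.z]
  · obtain ⟨g, e⟩ := L.conj l hl
    refine ⟨g, ?_⟩
    show A l * k⁻¹ = g * (z0 * k⁻¹) * g⁻¹
    rw [e, mul_assoc (g * z0), hkc g⁻¹]
    group
  · show σ (A l * k⁻¹) = im l
    rw [map_mul, map_inv, hk1, inv_one, mul_one, L.map l hl]
  · calc z0 * k⁻¹ * (z0 * k⁻¹) = z0 * (k⁻¹ * z0) * k⁻¹ := by group
      _ = z0 * z0 * (k * k)⁻¹ := by rw [← hkc z0]; group
      _ = 1 := by rw [hkk, ← hκ, mul_inv_cancel]
  · rw [wval_scale hkc, rev_facts.2.2, ← hc, inv_pow,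
      show k ^ 63 = (k * k) ^ 31 * k by rw [← pow_two, ← pow_mul, ← pow_succ], hkk, hk]
    rw [hcκ]
    group

end

end Cfsg.Lib.FiSixfold
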