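import Cfsg.Agent.FiSixfold.BitMat
import Cfsg.Agent.FiSixfold.MatData
import Cfsg.Agent.FiPres.Relators

/-!
The nine matrices satisfy all the relations of the presented Fischer group on nine letters but the spider relation, the
value of which is a scalar of order three.
-/

set_option autoImplicit false
set_option Elab.async false

namespace Cfsg.Lib.FiSixfold

open Cfsg.Lib.FiPres (rpt pairWord)

/-- The spider word. -/
def spiderW : List ℕ := rpt 10 [3, 2, 1, 3, 4, 5, 3, 7, 8]

theorem gens_len : (gensB.all fun M => M.length == 54) = true ∧ gensB.length = 9 := by decide +kernel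

theorem gens_sq : ((List.range 9).all fun l => wordB 54 gensB [l, l] == idB 54) = true := by decide +kernel

theorem pairs_ok : ((List.range 9).all fun x => (List.range 9).all fun y =>
    wordB 54 gensB (pairWord x y) == idB 54) = true := by decide +kernel

theorem cox_ok : (wordB 54 gensB (rpt 9 [0, 1, 2, 3, 4, 5, 7]) == idB 54) = true := by decide +kernel

theorem seven_ok : (wordB 54 gensB (rpt 9 [1, 2, 3, 4, 5, 6, 7]) == idB 54) = true := by decide +kernel

theorem spider_value : (wordB 54 gensB spiderW == omegaB) = true := by decide +kernel

theorem omega_ok : ((List.range 9).all fun l => mulB (gensB.getD l (idB 54)) omegaB ==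
    mulB omegaB (gensB.getD l (idB 54))) = true ∧ (mulB omegaB (mulB omegaB omegaB) == idB 54) = true ∧
    (omegaB.getD 0 0).testBit 0 = false ∧ omegaB.length = 54 := by decide +kernel

end Cfsg.Lib.FiSixfold
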