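import Cfsg.Agent.FiSixfold.MatChecks
import Cfsg.Agent.FiSixfold.Perfect
import Cfsg.Agent.FiPres.Order
import Cfsg.Prelude.Def_KGroupFacts

/-!
A stem extension of degree three of the presented Fischer group on nine letters.
-/

set_option autoImplicit false
set_option Elab.async false

namespace Cfsg.Lib.FiSixfold

open Cfsg.Lib.CosetCert
open Cfsg.Lib.FiPres (rpt pairWord wval_rpt wval_cons wval_nil allWords extraWords Good toGrp toGrp_im)

/-- Invertible matrices of size fifty-four over two elements. -/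
abbrev MGrp : Type := (Matrix (Fin 54) (Fin 54) (ZMod 2))ˣ

theorem gens_mem : ∀ M ∈ gensB, M.length = 54 := fun M hM => by
  simpa using List.all_eq_true.1 gens_len.1 M hM

theorem word_val (w : List ℕ) : toM 54 (wordB 54 gensB w) =
    (w.map fun l => toM 54 (gensB.getD l (idB 54))).prod := toM_wordB gens_mem w

theorem gen_sq (l : ℕ) : toM 54 (gensB.getD l (idB 54)) * toM 54 (gensB.getD l (idB 54)) = 1 := by
  rcases lt_or_ge l 9 with h | h
  · have e := List.all_eq_true.1 gens_sq l (List.mem_range.2 h)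
    rw [beq_iff_eq] at e
    have := word_val [l, l]
    rw [e, toM_idB] at this
    simpa using this.symm
  · rw [List.getD_eq_default _ _ (gens_len.2.le.trans h), toM_idB, one_mul]

/-- The letters. -/
def unitB (l : ℕ) : MGrp := ⟨_, _, gen_sq l, gen_sq l⟩

theorem unit_val (w : List ℕ) : ((wval unitB w : MGrp) : Matrix (Fin 54) (Fin 54) (ZMod 2)) =
    toM 54 (wordB 54 gensB w) := by
  induction w with
  | nil => rw [word_val]; rfl
  | cons l w ih =>
    rw [word_val, List.map_cons, List.prod_cons, ← word_val, ← ih, wval_cons, Units.val_mul]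
    rfl

theorem unit_one {w : List ℕ} (h : (wordB 54 gensB w == idB 54) = true) : wval unitB w = 1 :=
  Units.ext (by rw [unit_val, beq_iff_eq.1 h, toM_idB]; rfl)

/-- The pairs of a matrix and an element. -/
def imT (l : ℕ) : MGrp × Cfsg.Spor.Fi22 := (unitB l, Cfsg.Lib.FiPres.im l)

theorem imT_val (w : List ℕ) : wval imT w = (wval unitB w, wval Cfsg.Lib.FiPres.im w) := by
  induction w with
  | nil => rfl
  | cons l w ih => rw [wval_cons, wval_cons, wval_cons, ih]; rfl

theorem imT_rel {w : List ℕ} (hw : w ∈ allWords) (hne : w ≠ spiderW) : wval imT w = 1 := by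
  rw [imT_val, Cfsg.Lib.FiPres.good_im w hw]
  refine Prod.ext (unit_one ?_) rfl
  rcases List.mem_append.1 hw with h | h
  · obtain ⟨x, hx, h⟩ := List.mem_flatMap.1 h
    obtain ⟨y, hy, rfl⟩ := List.mem_map.1 h
    exact List.all_eq_true.1 (List.all_eq_true.1 pairs_ok x hx) y hy
  · simp only [extraWords, List.mem_cons, List.not_mem_nil, or_false] at h
    rcases h with rfl | rfl | rfl
    · exact absurd rfl hne
    · exact cox_ok
    · exact seven_ok

/-- The generated group. -/
abbrev Trip : Type := ↥(lgp imT (List.range 9))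

/-- The letters of the cover. -/
def gT (l : ℕ) : Trip := if h : l < 9 then ⟨imT l, lgp_mem imT (List.mem_range.2 h)⟩ else 1

theorem gT_val : ∀ {w : List ℕ}, (∀ l ∈ w, l < 9) → ((wval gT w : Trip) : MGrp × Cfsg.Spor.Fi22) = wval imT w
  | [], _ => rfl
  | l :: w, h => by
    rw [wval_cons, wval_cons, Subgroup.coe_mul, gT_val fun a ha => h a (List.mem_cons_of_mem l ha), gT,
      dif_pos (h l List.mem_cons_self)]

theorem gT_top {P : Subgroup Trip} (h : ∀ l < 9, gT l ∈ P) : P = ⊤ := by
  refine eq_top_iff.2 fun g _ => ?_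
  have hle : lgp imT (List.range 9) ≤ P.map (lgp imT (List.range 9)).subtype := by
    refine (Subgroup.closure_le _).2 ?_
    rintro _ ⟨l, hl, rfl⟩
    exact ⟨gT l, h l (List.mem_range.1 hl), by simp [gT, dif_pos (List.mem_range.1 hl)]⟩
  obtain ⟨g', hg', e⟩ := hle g.2
  rwa [← Subtype.ext e]

/-- The projection. -/
def proj : Trip →* Cfsg.Spor.Fi22 := (MonoidHom.snd MGrp Cfsg.Spor.Fi22).comp (lgp imT (List.range 9)).subtype

theorem proj_gT {l : ℕ} (hl : l < 9) : proj (gT l) = Cfsg.Lib.FiPres.im l := by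
  simp [proj, gT, dif_pos hl, imT]

theorem proj_surj : Function.Surjective proj := by
  rw [← MonoidHom.range_eq_top, eq_top_iff, ← Cfsg.Lib.FiPres.closure_im, Subgroup.closure_le]
  rintro _ ⟨l, hl, rfl⟩
  exact ⟨gT l, proj_gT hl⟩

theorem allWords_lt : ∀ w ∈ allWords, ∀ l ∈ w, l < 9 := by decide +kernel

theorem spider_lt : ∀ l ∈ spiderW, l < 9 := by decide +kernel

/-- The value of the spider word. -/
def zeta : Trip := wval gT spiderW

theorem zeta_val : (zeta : MGrp × Cfsg.Spor.Fi22) = (wval unitB spiderW, 1) := by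
  rw [zeta, gT_val spider_lt, imT_val, Cfsg.Lib.FiPres.good_im spiderW
    (List.mem_append_right _ (by simp [extraWords, spiderW]))]

theorem omega_val : ((wval unitB spiderW : MGrp) : Matrix (Fin 54) (Fin 54) (ZMod 2)) = toM 54 omegaB := by
  rw [unit_val, beq_iff_eq.1 spider_value]

theorem zeta_center : zeta ∈ Subgroup.center Trip := by
  refine Subgroup.mem_center_iff.2 fun g => ?_
  have htop : (Subgroup.centralizer {zeta} : Subgroup Trip) = ⊤ := gT_top fun l hl => by
    rw [Subgroup.mem_centralizer_singleton_iff]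
    refine Subtype.ext ?_
    rw [Subgroup.coe_mul, Subgroup.coe_mul, zeta_val, gT, dif_pos hl]
    refine Prod.ext (Units.ext ?_) ?_
    · show ((unitB l * wval unitB spiderW : MGrp) : Matrix (Fin 54) (Fin 54) (ZMod 2)) =
        ((wval unitB spiderW * unitB l : MGrp) : Matrix (Fin 54) (Fin 54) (ZMod 2))
      rw [Units.val_mul, Units.val_mul, omega_val]
      show toM 54 (gensB.getD l (idB 54)) * toM 54 omegaB = toM 54 omegaB * toM 54 (gensB.getD l (idB 54))
      have hlen : (gensB.getD l (idB 54)).length = 54 := by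
        rw [List.getD_eq_getElem _ _ (gens_len.2.symm ▸ hl)]
        exact gens_mem _ (List.getElem_mem _)
      rw [← toM_mulB hlen omega_ok.2.2.2, ← toM_mulB omega_ok.2.2.2 hlen,
        beq_iff_eq.1 (List.all_eq_true.1 omega_ok.1 l (List.mem_range.2 hl))]
    · show Cfsg.Lib.FiPres.im l * 1 = 1 * Cfsg.Lib.FiPres.im l
      rw [mul_one, one_mul]
  exact Subgroup.mem_centralizer_singleton_iff.1 (htop ▸ Subgroup.mem_top g)

theorem zeta_three : zeta ^ 3 = 1 := by
  refine Subtype.ext ?_
  rw [SubmonoidClass.coe_pow, zeta_val]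
  refine Prod.ext (Units.ext ?_) (one_pow 3)
  have hO : (omegaB : List ℕ).length = 54 := omega_ok.2.2.2
  have hOO : (mulB omegaB omegaB).length = 54 := by rw [mulB, List.length_map]; exact hO
  have h3 : toM 54 omegaB ^ 3 = 1 := by
    rw [pow_succ', pow_two]
    exact ((toM_mulB hO hOO).trans (congrArg (fun M => toM 54 omegaB * M) (toM_mulB hO hO))).symm.trans
      ((congrArg (toM 54) (beq_iff_eq.1 omega_ok.2.1)).trans (toM_idB 54))
  exact (Units.val_pow_eq_pow_val _ 3).trans ((congrArg (· ^ 3) omega_val).trans h3)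

theorem zeta_ne : zeta ≠ 1 := by
  intro h
  have e : toM 54 omegaB (⟨0, by norm_num⟩ : Fin 54) ⟨0, by norm_num⟩ = 1 := by
    rw [← omega_val, show (wval unitB spiderW : MGrp) = 1 from (congrArg Prod.fst zeta_val).symm.trans (by rw [h]; rfl),
      Units.val_one, Matrix.one_apply_eq]
  have e' : bz ((omegaB.getD 0 0).testBit 0) = 1 := e
  rw [omega_ok.2.2.1] at e'
  exact absurd e' (by decide)

theorem proj_apply (g : Trip) : proj g = (g : MGrp × Cfsg.Spor.Fi22).2 := rfl

theorem proj_zeta : proj zeta = 1 := by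
  rw [proj_apply, zeta_val]

theorem ker_proj : proj.ker = Subgroup.zpowers zeta := by
  haveI : (Subgroup.zpowers zeta).Normal := ⟨fun n hn g => by
    rw [Subgroup.mem_center_iff.1 ((Subgroup.zpowers_le).2 zeta_center hn) g, mul_inv_cancel_right]
    exact hn⟩
  refine le_antisymm (fun g hg => ?_) ((Subgroup.zpowers_le).2 proj_zeta)
  let π := QuotientGroup.mk' (Subgroup.zpowers zeta)
  have hgood : Good fun l => π (gT l) := by
    intro w hw
    show wval (fun l => π (gT l)) w = 1
    rw [← map_wval]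
    by_cases he : w = spiderW
    · subst he
      exact (QuotientGroup.eq_one_iff _).2 (Subgroup.mem_zpowers zeta)
    · rw [show wval gT w = 1 from Subtype.ext (by rw [gT_val (allWords_lt w hw), imT_rel hw he]; rfl), map_one]
  have hs : (toGrp hgood).comp proj = π := by
    refine MonoidHom.eq_of_eqOn_dense (gT_top (P := Subgroup.closure (gT '' Set.Iio 9))
      fun l hl => Subgroup.subset_closure ⟨l, hl, rfl⟩) ?_
    rintro _ ⟨l, hl, rfl⟩
    rw [MonoidHom.comp_apply, proj_gT hl, toGrp_im hgood hl]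
  have := DFunLike.congr_fun hs g
  rw [MonoidHom.comp_apply, MonoidHom.mem_ker.1 hg, map_one] at this
  exact (QuotientGroup.eq_one_iff _).1 this.symm

theorem links : ∀ e : Fin 8, pairWord ([0, 1, 2, 3, 4, 5, 3, 7].getD e.val 0) ([1, 2, 3, 4, 5, 6, 7, 8].getD e.val 0) =
    rpt 3 [[0, 1, 2, 3, 4, 5, 3, 7].getD e.val 0, [1, 2, 3, 4, 5, 6, 7, 8].getD e.val 0] := by decide +kernel

theorem perfect : commutator Trip = ⊤ := by
  refine gT_top fun l hl => (QuotientGroup.eq_one_iff _).1 ?_
  set π := QuotientGroup.mk' (commutator Trip)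
  set d : ℕ → Abelianization Trip := fun l => π (gT l)
  have hrel : ∀ w ∈ allWords, w ≠ spiderW → wval d w = 1 := fun w hw he => by
    show wval (fun l => π (gT l)) w = 1
    rw [← map_wval, show wval gT w = 1 from Subtype.ext (by rw [gT_val (allWords_lt w hw), imT_rel hw he]; rfl),
      map_one]
  have hlen : ∀ x y, (pairWord x y).length ≠ spiderW.length := by
    intro x y
    rw [pairWord, rpt, List.length_flatten, List.map_replicate, List.sum_replicate]
    have : Cfsg.Spor.coxLabel Cfsg.Spor.Fi22.edges (Cfsg.Lib.FiPres.genOf x) (Cfsg.Lib.FiPres.genOf y) ≤ 3 := by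
      cases Cfsg.Lib.FiPres.genOf x <;> cases Cfsg.Lib.FiPres.genOf y <;> decide
    rw [show spiderW.length = 90 by decide +kernel, show [x, y].length = 2 from rfl, smul_eq_mul]
    omega
  have hpair : ∀ x y, x < 9 → y < 9 → wval d (pairWord x y) = 1 := fun x y hx hy =>
    hrel _ (List.mem_append_left _ (List.mem_flatMap.2 ⟨x, List.mem_range.2 hx, List.mem_map.2 ⟨y,
      List.mem_range.2 hy, rfl⟩⟩)) fun e => hlen x y (congrArg List.length e)
  have hsq : ∀ x, x < 9 → d x * d x = 1 := fun x hx => by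
    have := hpair x x hx hx
    rwa [pairWord, Cfsg.Lib.FiPres.label_self, wval_rpt, wval_cons, wval_cons, wval_nil, mul_one, pow_one] at this
  have hlt : ∀ e : Fin 8, [0, 1, 2, 3, 4, 5, 3, 7].getD e.val 0 < 9 ∧ [1, 2, 3, 4, 5, 6, 7, 8].getD e.val 0 < 9 := by
    decide
  have hadj : ∀ e : Fin 8, d ([0, 1, 2, 3, 4, 5, 3, 7].getD e.val 0) = d ([1, 2, 3, 4, 5, 6, 7, 8].getD e.val 0) :=
    fun e => by
      have h := hpair _ _ (hlt e).1 (hlt e).2
      rw [links e, wval_rpt, wval_cons, wval_cons, wval_nil, mul_one] at h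
      exact eq_of_braid (mul_comm _ _) (hsq _ (hlt e).1) (hsq _ (hlt e).2) h
  have e1 : d 1 = d 0 := (hadj 0).symm
  have e2 : d 2 = d 0 := (hadj 1).symm.trans e1
  have e3 : d 3 = d 0 := (hadj 2).symm.trans e2
  have e4 : d 4 = d 0 := (hadj 3).symm.trans e3
  have e5 : d 5 = d 0 := (hadj 4).symm.trans e4
  have e6 : d 6 = d 0 := (hadj 5).symm.trans e5
  have e7 : d 7 = d 0 := (hadj 6).symm.trans e3
  have e8 : d 8 = d 0 := (hadj 7).symm.trans e7
  refine letters_one (x0 := 0) (w := rpt 9 [0, 1, 2, 3, 4, 5, 7]) (L := List.range 9) (fun k hk => ?_)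
    (by decide +kernel) (hsq 0 (by norm_num)) ?_ (by decide +kernel) l (List.mem_range.2 hl)
  · rw [List.mem_range] at hk
    interval_cases k <;> first | rfl | assumption
  · exact hrel _ (List.mem_append_right _ (by simp [extraWords])) (by decide +kernel)

theorem exists_three : ∃ (Γ : Type) (_ : Group Γ) (_ : Finite Γ) (σ : Γ →* Cfsg.Spor.Fi22),
    Cfsg.IsStemExtension σ ∧ Nat.card σ.ker = 3 :=
  ⟨Trip, inferInstance, inferInstance, proj, ⟨proj_surj, ker_proj ▸ (Subgroup.zpowers_le).2 zeta_center,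
    by rw [perfect]; exact le_top⟩, by
    rw [ker_proj, Nat.card_zpowers]
    exact orderOf_eq_prime zeta_three zeta_ne⟩

end Cfsg.Lib.FiSixfold
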